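import Groth.Agent.Sga3C.QuotGrpObj
import Groth.Agent.Sga3C.QuotProps

/-!
# Quasi-compact faithfully flat quotients of group schemes

The analogues of `Groth.Agent.Sga3C.QuotProps` for a quotient map `p : G ⟶ X` which is flat,
surjective and quasi-compact instead of locally of finite presentation.
-/

set_option autoImplicit false
universe v u
open CategoryTheory MonoidalCategory CartesianMonoidalCategory MonObj GrpObj AlgebraicGeometry Limits
open Groth.Agent.Sga3C.QuotGrpObj Groth.Agent.Sga3C.QuotProps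

namespace Groth.Agent.Sga3.H140.QuotQC

variable {S : Scheme.{u}}

/-- Descent of morphisms along an fpqc cover, in `Over S`. -/
theorem exists_desc {G X Z : Over S} (p : G ⟶ X) [Flat p.left] [Surjective p.left]
    [QuasiCompact p.left] (f : G ⟶ Z)
    (hf : ∀ (T : Over S) (x y : T ⟶ G), x ≫ p = y ≫ p → x ≫ f = y ≫ f) : ∃ g : X ⟶ Z, p ≫ g = f := by
  have hf' : ∀ {W : Scheme.{u}} (g₁ g₂ : W ⟶ G.left), g₁ ≫ p.left = g₂ ≫ p.left → g₁ ≫ f.left = g₂ ≫ f.left := by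
    intro W g₁ g₂ h
    have h2 : g₂ ≫ G.hom = g₁ ≫ G.hom := by
      rw [← Over.w p, ← Category.assoc, ← Category.assoc, h]
    let T : Over S := Over.mk (g₁ ≫ G.hom)
    have := hf T (Over.homMk g₁ rfl) (Over.homMk g₂ h2) (by ext1; exact h)
    exact congrArg (fun z => Over.Hom.left z) this
  have hp : Epi p.left := Flat.epi_of_flat_of_surjective _
  have hfac := EffectiveEpi.fac p.left f.left hf'
  refine ⟨Over.homMk (EffectiveEpi.desc p.left f.left hf') ?_, ?_⟩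
  · rw [← cancel_epi p.left, ← Category.assoc, hfac, Over.w, Over.w]
  · ext1
    exact hfac

variable {F G X : Over S} [GrpObj G]

/-- The quotient of a group scheme by a normal subgroup scheme is a group scheme. -/
theorem exists_grpObj_quotient [GrpObj F] (u : F ⟶ G) [IsMonHom u] (p : G ⟶ X) [Flat p.left]
    [Surjective p.left] [QuasiCompact p.left]
    (hp : IsPullback ((u ▷ G) ≫ μ[G]) (snd F G) p p) (hN : AlgGrp.IsNormalHom u) :
    ∃ _ : GrpObj X, IsMonHom p := by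
  have hw : (u ▷ G) ≫ μ[G] ≫ p = snd F G ≫ p := by rw [← Category.assoc]; exact hp.w
  have f2 : Flat (p ⊗ₘ p).left := tensorHom_left_of (@Flat) p p ‹_› ‹_›
  have s2 : Surjective (p ⊗ₘ p).left := tensorHom_left_of (@Surjective) p p ‹_› ‹_›
  have l2 : QuasiCompact (p ⊗ₘ p).left := tensorHom_left_of (@QuasiCompact) p p ‹_› ‹_›
  obtain ⟨m, hm⟩ := exists_desc (p ⊗ₘ p) (μ[G] ≫ p) (by
    intro T x y hxy
    have e1 : (x ≫ fst G G) ≫ p = (y ≫ fst G G) ≫ p := by
      have := congrArg (fun z => z ≫ fst X X) hxy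
      simpa using this
    have e2 : (x ≫ snd G G) ≫ p = (y ≫ snd G G) ≫ p := by
      have := congrArg (fun z => z ≫ snd X X) hxy
      simpa using this
    obtain ⟨c₁, h₁⟩ := exists_fac_of_comp_eq hp _ _ e1
    obtain ⟨c₂, h₂⟩ := exists_fac_of_comp_eq hp _ _ e2
    obtain ⟨n, hn⟩ := hN T (y ≫ fst G G) c₂
    have ex : x ≫ μ[G] = (x ≫ fst G G) * (x ≫ snd G G) := by
      rw [Hom.mul_def]; congr 1; ext1 <;> simp
    have ey : y ≫ μ[G] = (y ≫ fst G G) * (y ≫ snd G G) := by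
      rw [Hom.mul_def]; congr 1; ext1 <;> simp
    rw [← Category.assoc, ← Category.assoc, ex, ey, h₁, h₂]
    have e3 : (c₁ ≫ u) * (y ≫ fst G G) * ((c₂ ≫ u) * (y ≫ snd G G)) =
        ((c₁ * n) ≫ u) * ((y ≫ fst G G) * (y ≫ snd G G)) := by
      rw [mul_comp, ← hn]
      group
    rw [e3, mul_comp_eq hw])
  obtain ⟨i, hi⟩ := exists_desc p (ι[G] ≫ p) (by
    intro T x y hxy
    obtain ⟨c, h⟩ := exists_fac_of_comp_eq hp _ _ hxy
    obtain ⟨n, hn⟩ := hN T y⁻¹ c⁻¹
    have ex : x ≫ ι[G] = x⁻¹ := rfl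
    have ey : y ≫ ι[G] = y⁻¹ := rfl
    rw [← Category.assoc, ← Category.assoc, ex, ey, h]
    have e3 : ((c ≫ u) * y)⁻¹ = (n ≫ u) * y⁻¹ := by
      rw [← hn, inv_comp]
      group
    rw [e3, mul_comp_eq hw])
  have := epi_of_flat_surjective p
  have fl : Flat (𝟙 (𝟙_ (Over S)) ⊗ₘ p).left := tensorHom_left_of (@Flat) _ p (by rw [Over.id_left]; infer_instance) ‹_›
  have sl : Surjective (𝟙 (𝟙_ (Over S)) ⊗ₘ p).left :=
    tensorHom_left_of (@Surjective) _ p (by rw [Over.id_left]; infer_instance) ‹_›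
  have fr : Flat (p ⊗ₘ 𝟙 (𝟙_ (Over S))).left := tensorHom_left_of (@Flat) p _ ‹_› (by rw [Over.id_left]; infer_instance)
  have sr : Surjective (p ⊗ₘ 𝟙 (𝟙_ (Over S))).left :=
    tensorHom_left_of (@Surjective) p _ ‹_› (by rw [Over.id_left]; infer_instance)
  have f3 : Flat ((p ⊗ₘ p) ⊗ₘ p).left := tensorHom_left_of (@Flat) _ p ‹_› ‹_›
  have s3 : Surjective ((p ⊗ₘ p) ⊗ₘ p).left := tensorHom_left_of (@Surjective) _ p ‹_› ‹_›
  have := epi_of_flat_surjective (𝟙 (𝟙_ (Over S)) ⊗ₘ p)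
  have := epi_of_flat_surjective (p ⊗ₘ 𝟙 (𝟙_ (Over S)))
  have := epi_of_flat_surjective ((p ⊗ₘ p) ⊗ₘ p)
  obtain ⟨g, hg, -⟩ := exists_grpObj p m hm i hi (fun _ _ => (cancel_epi _).mp) (fun _ _ => (cancel_epi _).mp)
    (fun _ _ => (cancel_epi _).mp) (fun _ _ => (cancel_epi _).mp)
  exact ⟨g, hg⟩

end Groth.Agent.Sga3.H140.QuotQC
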