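import Groth.Agent.S3018
import Groth.Agent.Books.QuotAssembly

/-!
# Quotients of affine group schemes over a field by closed normal subgroups (no finiteness)

`exists_quotient`: for an affine group scheme `G` over a field (not necessarily of finite type) and a
closed normal subgroup `N` there is a faithfully flat homomorphism `G ⟶ Q` onto an affine group
scheme with kernel `N`.
-/

set_option autoImplicit false

universe u

open CategoryTheory MonoidalCategory CartesianMonoidalCategory MonObj GrpObj AlgebraicGeometry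
open AlgGrp

namespace Groth.Agent.Sga3.H140.AffQuot

open Groth.Agent.Books Groth.Agent.Books.AffBridge Groth.Agent.Books.AffBridge2
  Groth.Agent.Books.SubHopf

variable (k : Type u) [Field k]

/-- The Hopf algebraic statement: a normal Hopf ideal is generated by the augmentation ideal of a
Hopf algebra mapping injectively. -/
theorem core (A : Type u) [CommRing A] [HopfAlgebra k A] (I : Ideal A)
    [I.IsHopfIdeal k] (hI : SGA3.IsNormalHopfIdeal k A I) :
    ∃ (B : Type u) (_ : CommRing B) (_ : HopfAlgebra k B) (φ : B →ₐc[k] A),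
      Function.Injective φ ∧
      I = Ideal.map (φ : B →ₐ[k] A) (RingHom.ker (Bialgebra.counitAlgHom k B)) := by
  obtain ⟨B, hB, -, hIB⟩ := Groth.Agent.S3018.result k A I hI
  have hB' : IsSubHopf (k := k) B := ⟨hB.1, hB.2⟩
  letI := hB'.hopf
  refine ⟨B, inferInstance, hB'.hopf, hB'.val, Subtype.val_injective, ?_⟩
  rw [hIB]
  apply le_antisymm
  · refine Ideal.span_le.2 ?_
    rintro a ⟨haB, ha0⟩
    have h3 : (⟨a, haB⟩ : B) ∈ RingHom.ker (Bialgebra.counitAlgHom k B) := ha0
    exact Ideal.mem_map_of_mem (hB'.val : B →ₐ[k] A) h3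
  · refine Ideal.map_le_iff_le_comap.2 ?_
    intro b hb
    exact Ideal.subset_span ⟨b.2, hb⟩

/-- Affine quotients of affine group schemes over a field by closed normal subgroups. -/
theorem exists_quotient
    (G N : Over (Spec (CommRingCat.of k))) [GrpObj G] [GrpObj N] [IsAffine G.left]
    (i : N ⟶ G) [IsMonHom i] [IsClosedImmersion i.left]
    (hN : AlgGrp.IsNormalHom i) :
    ∃ (Q : Over (Spec (CommRingCat.of k))) (_ : GrpObj Q) (q : G ⟶ Q), IsMonHom q ∧
      IsAffine Q.left ∧ Flat q.left ∧ Surjective q.left ∧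
      AlgGrp.IsKernel i q := by
  obtain ⟨A, _, _, e, he⟩ := exists_hopf k G
  have hcl : IsClosedImmersion (i ≫ e.hom).left := by
    rw [Over.comp_left]
    infer_instance
  obtain ⟨I, hI, e', he', hie⟩ := exists_hopfIdeal k (i ≫ e.hom)
  have hnorm : AlgGrp.IsNormalHom (i ≫ e.hom) := by
    intro T g n
    obtain ⟨n', hn'⟩ := hN T (g ≫ e.inv) n
    refine ⟨n', ?_⟩
    have h1 := congr($hn' ≫ e.hom)
    rw [MonObj.mul_comp, MonObj.mul_comp, GrpObj.inv_comp, Category.assoc, Category.assoc,
      Category.assoc, Iso.inv_hom_id, Category.comp_id] at h1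
    exact h1
  have hnI : SGA3.IsNormalHopfIdeal k A I := by
    intro R _ _ g h hh a ha
    rw [DynBasic.conv3_eq]
    exact conj_mem_of_isNormalHom k (i ≫ e.hom) I e' hie hnorm g h hh a ha
  obtain ⟨B, _, _, φ, hφ, hIB⟩ := core k A I hnI
  have hff := CoidealFlat.faithfullyFlat_of_injective φ hφ
  have hfs := (flat_and_surjective_specMap_iff k (φ : B →ₐ[k] A)).2 hff
  have hmon : IsMonHom (specMap k (φ : B →ₐ[k] A)) := isMonHom_specMap k φ
  refine ⟨SpecOver k B, inferInstance, e.hom ≫ specMap k (φ : B →ₐ[k] A), inferInstance,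
    inferInstanceAs (IsAffine (Spec (CommRingCat.of B))), ?_, ?_, ?_⟩
  · rw [Over.comp_left]
    have := hfs.1
    infer_instance
  · rw [Over.comp_left]
    have := hfs.2
    infer_instance
  · have hk := isKernel_specMap k (φ : B →ₐ[k] A) I hIB
    refine IsPullback.of_iso hk e'.symm e.symm (Iso.refl _) (Iso.refl _) ?_ ?_ ?_ ?_
    · change specMap k (Ideal.Quotient.mkₐ k I) ≫ e.inv = e'.inv ≫ i
      rw [Iso.eq_inv_comp, ← Category.assoc, hie, Category.assoc, Iso.hom_inv_id,
        Category.comp_id]
    · exact toUnit_unique _ _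
    · simp
    · simp

end Groth.Agent.Sga3.H140.AffQuot
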